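import Groth.Prelude.Def_W4c5qcohlocdualityLoc
import Mathlib

/-!
# Hereditary classes and localizing classes in Grothendieck abelian categories
-/

set_option autoImplicit false
set_option linter.style.haveILetI false

universe w v u

open CategoryTheory CategoryTheory.Limits
open scoped ZeroObject

noncomputable section

attribute [local instance] IsFiltered.isConnected

namespace GabLoc29

variable {C : Type u} [Category.{v} C] [Abelian C]

/-- Pullbacks of jointly epimorphic filtered cocones are jointly epimorphic. -/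
theorem jointlyEpi_pullback {J : Type w} [SmallCategory J] [IsFiltered J] [HasColimitsOfShape J C]
    [HasExactColimitsOfShape J C] {D : J ⥤ C} {X W : C}
    (γ : D ⟶ (Functor.const J).obj X)
    (hγ : ∀ ⦃Z : C⦄ (z : X ⟶ Z), (∀ j, γ.app j ≫ z = 0) → z = 0) (f : W ⟶ X) :
    ∀ ⦃Z : C⦄ (z : W ⟶ Z), (∀ j, pullback.fst f (γ.app j) ≫ z = 0) → z = 0 := by
  intro Z z hz
  let a : (Functor.const J).obj W ⟶ (Functor.const J).obj X := (Functor.const J).map f
  let c : Cocone D := ⟨X, γ⟩
  let d : colimit D ⟶ X := colimit.desc D c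
  haveI : Epi d := Preadditive.epi_of_cancel_zero _ fun {Z} z hz => hγ z fun j => by
    have := congrArg (colimit.ι D j ≫ ·) hz
    simpa [d, c] using this
  let eW : colimit ((Functor.const J).obj W) ≅ W :=
    (colimit.isColimit _).coconePointUniqueUpToIso (isColimitConstCocone J W)
  let eX : colimit ((Functor.const J).obj X) ≅ X :=
    (colimit.isColimit _).coconePointUniqueUpToIso (isColimitConstCocone J X)
  have hW : ∀ j, colimit.ι ((Functor.const J).obj W) j ≫ eW.hom = 𝟙 W := fun j =>
    (colimit.isColimit _).comp_coconePointUniqueUpToIso_hom (isColimitConstCocone J W) j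
  have hX : ∀ j, colimit.ι ((Functor.const J).obj X) j ≫ eX.hom = 𝟙 X := fun j =>
    (colimit.isColimit _).comp_coconePointUniqueUpToIso_hom (isColimitConstCocone J X) j
  have hd : colim.map γ ≫ eX.hom = d := colimit.hom_ext fun j => by
    simp [d, c, reassoc_of% (colimit.ι_map γ j), hX]
  haveI : Epi (colim.map γ) := by
    have : colim.map γ = d ≫ eX.inv := by rw [← hd, Category.assoc, Iso.hom_inv_id, Category.comp_id]
    rw [this]; infer_instance
  have sq := (IsPullback.of_hasPullback a γ).map (colim (J := J) (C := C))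
  haveI : Epi (colim.map (pullback.fst a γ)) := by
    have : colim.map (pullback.fst a γ) = sq.isoPullback.hom ≫ pullback.fst _ _ :=
      sq.isoPullback_hom_fst.symm
    rw [this]; infer_instance
  rw [← cancel_epi eW.hom, comp_zero, ← cancel_epi (colim.map (pullback.fst a γ)), comp_zero]
  refine colimit.hom_ext fun j => ?_
  simp only [comp_zero]
  erw [colimit.ι_map_assoc, reassoc_of% (hW j)]
  let e := ((IsPullback.of_hasPullback a γ).map ((evaluation J C).obj j)).isoPullback
  have he : e.hom ≫ pullback.fst f (γ.app j) = (pullback.fst a γ).app j :=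
    ((IsPullback.of_hasPullback a γ).map ((evaluation J C).obj j)).isoPullback_hom_fst
  rw [← he, Category.assoc]
  erw [Category.id_comp, hz, comp_zero]

/-- A family of subobjects is jointly epimorphic iff its supremum is everything. -/
lemma iSup_eq_top_iff [IsGrothendieckAbelian.{w} C] {X : C} {ι : Type w} (S : ι → Subobject X) :
    ⨆ i, S i = ⊤ ↔ ∀ ⦃Z : C⦄ (z : X ⟶ Z), (∀ i, (S i).arrow ≫ z = 0) → z = 0 := by
  constructor
  · intro h Z z hz
    have hle : (⊤ : Subobject X) ≤ kernelSubobject z := h ▸ iSup_le fun i => le_kernelSubobject _ _ (hz i)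
    have : (⊤ : Subobject X).arrow ≫ z = 0 := by
      rw [← Subobject.ofLE_arrow hle, Category.assoc, kernelSubobject_arrow_comp, comp_zero]
    rwa [← cancel_epi (⊤ : Subobject X).arrow, comp_zero]
  · intro h
    let U := ⨆ i, S i
    have hz : cokernel.π U.arrow = 0 := h _ fun i => by
      rw [← Subobject.ofLE_arrow (le_iSup S i), Category.assoc]
      erw [cokernel.condition]
      rw [comp_zero]
    haveI : Epi U.arrow := Abelian.epi_of_cokernel_π_eq_zero _ hz
    haveI : IsIso U.arrow := isIso_of_mono_of_epi _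
    exact Subobject.eq_top_of_isIso_arrow U

variable [IsGrothendieckAbelian.{w} C]

lemma iSup_pullback_eq_top {J : Type w} [SemilatticeSup J] [Nonempty J] {X W : C} (S : J → Subobject X)
    (hS : Monotone S) (htop : ⨆ j, S j = ⊤) (f : W ⟶ X) : ⨆ j, (Subobject.pullback f).obj (S j) = ⊤ := by
  let D : J ⥤ C := hS.functor ⋙ Subobject.underlying
  let γ : D ⟶ (Functor.const J).obj X :=
    { app := fun j => (S j).arrow
      naturality := fun i j g => by simp [D] }
  rw [iSup_eq_top_iff]
  intro Z z hz
  refine jointlyEpi_pullback γ ((iSup_eq_top_iff S).1 htop) f z fun j => ?_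
  let sq := Subobject.isPullback f (S j)
  let h2 := (IsPullback.of_hasPullback f (S j).arrow).flip
  have : pullback.fst f (γ.app j) =
      (sq.lift (pullback.snd f (γ.app j)) (pullback.fst f (γ.app j)) pullback.condition.symm) ≫
        ((Subobject.pullback f).obj (S j)).arrow := (sq.lift_snd _ _ _).symm
  rw [this, Category.assoc, hz j, comp_zero]

/-- glue morphisms along a monotone jointly epimorphic family of subobjects -/
lemma exists_glue {J : Type w} [SemilatticeSup J] [Nonempty J] {N M : C} (P : J → Subobject N)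
    (hP : Monotone P) (htop : ⨆ j, P j = ⊤) (r : ∀ j, (P j : C) ⟶ M)
    (hr : ∀ i j (h : i ≤ j), Subobject.ofLE _ _ (hP h) ≫ r j = r i) :
    ∃ g : N ⟶ M, ∀ j, (P j).arrow ≫ g = r j := by
  let F : J ⥤ MonoOver N :=
    { obj := fun j => MonoOver.mk (P j).arrow
      map := fun g => MonoOver.homMk (Subobject.ofLE _ _ (hP (leOfHom g))) }
  let pt : Over N := Over.mk (𝟙 N)
  let c : Cocone (F ⋙ MonoOver.forget N) := Cocone.mk pt
    { app := fun j => Over.homMk (P j).arrow (by simp [pt, F, MonoOver.forget])
      naturality := fun i j g => by ext; simp [F, pt, MonoOver.forget] }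
  haveI : Mono c.pt.hom := by dsimp [c, pt]; infer_instance
  have hc : IsColimit ((Over.forget _).mapCocone c) :=
    IsGrothendieckAbelian.isColimitMapCoconeOfSubobjectMkEqISup F c (by
      dsimp [c, pt, F]
      simp only [Subobject.mk_arrow]
      rw [htop]
      exact (Subobject.top_eq_id (B := N)).symm)
  let d : Cocone ((F ⋙ MonoOver.forget N) ⋙ Over.forget N) := Cocone.mk M
    { app := fun j => r j
      naturality := fun i j g => by
        simp only [Functor.const_obj_obj, Functor.const_obj_map, Category.comp_id]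
        exact hr i j (leOfHom g) }
  exact ⟨hc.desc d, fun j => hc.fac d j⟩

/-- conditions making the hereditary core of a class localizing -/
structure IsCoreClass (G : C → Prop) : Prop where
  of_isZero : ∀ ⦃Z : C⦄, IsZero Z → G Z
  quot : ∀ ⦃W Z : C⦄ (q : W ⟶ Z) [Epi q], G W → G (kernel q) → G Z
  ext : ∀ ⦃S : ShortComplex C⦄, S.ShortExact → G S.X₁ → G S.X₃ → G S.X₂
  union : ∀ ⦃J : Type w⦄ [SemilatticeSup J] [Nonempty J] ⦃W : C⦄ (T : J → Subobject W), Monotone T →
    ⨆ j, T j = ⊤ → (∀ j, G (T j : C)) → G W

/-- all subobjects satisfy `G` -/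
def hered (G : C → Prop) : ObjectProperty C := fun Y => ∀ (W : C) (m : W ⟶ Y) [Mono m], G W

variable {G : C → Prop}

lemma hered_self {Y : C} (h : hered G Y) : G Y := h Y (𝟙 Y)

lemma hered_mono {X Y : C} (f : X ⟶ Y) [Mono f] (hY : hered G Y) : hered G X :=
  fun W m _ => hY W (m ≫ f)

lemma hered_quot (hG : IsCoreClass.{w} G) {Y Z : C} (q : Y ⟶ Z) [Epi q] (hY : hered G Y) : hered G Z := by
  intro W m hm
  exact hG.quot (pullback.snd q m) (hY _ (pullback.fst q m))
    (hY _ (kernel.ι (pullback.snd q m) ≫ pullback.fst q m))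

lemma hered_ext (hG : IsCoreClass.{w} G) {S : ShortComplex C} (hS : S.ShortExact) (h1 : hered G S.X₁)
    (h3 : hered G S.X₃) : hered G S.X₂ := by
  intro W m hm
  haveI := hS.mono_f
  let φ : W ⟶ S.X₃ := m ≫ S.g
  let T : ShortComplex C := ShortComplex.mk (kernel.ι φ) (Abelian.factorThruImage φ) (by
    rw [← cancel_mono (Abelian.image.ι φ), Category.assoc, Abelian.image.fac, kernel.condition, zero_comp])
  have hT : T.ShortExact :=
    { exact := T.exact_of_f_is_kernel (by
        refine KernelFork.IsLimit.ofι' _ _ fun {A} k hk => ⟨kernel.lift φ k ?_, kernel.lift_ι _ _ _⟩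
        rw [← Abelian.image.fac φ]
        dsimp [T] at hk ⊢
        rw [reassoc_of% hk, zero_comp]) }
  let l := hS.exact.lift (kernel.ι φ ≫ m) (by rw [Category.assoc]; exact kernel.condition φ)
  have hl : l ≫ S.f = kernel.ι φ ≫ m := hS.exact.lift_f _ _
  haveI : Mono l := by
    haveI : Mono (l ≫ S.f) := by rw [hl]; infer_instance
    exact mono_of_mono l S.f
  exact hG.ext hT (h1 _ l) (h3 _ (Abelian.image.ι φ))

lemma hered_union (hG : IsCoreClass.{w} G) {J : Type w} [SemilatticeSup J] [Nonempty J] {Y : C}
    (S : J → Subobject Y) (hS : Monotone S) (htop : ⨆ j, S j = ⊤) (h : ∀ j, hered G (S j : C)) : hered G Y := by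
  intro W m hm
  refine hG.union (fun j => (Subobject.pullback m).obj (S j)) (fun i j hij => (Subobject.pullback m).monotone (hS hij))
    (iSup_pullback_eq_top S hS htop m) fun j => ?_
  haveI : Mono (Subobject.pullbackπ m (S j)) := by
    haveI : Mono (Subobject.pullbackπ m (S j) ≫ (S j).arrow) := by
      rw [(Subobject.isPullback m (S j)).w]; infer_instance
    exact mono_of_mono _ (S j).arrow
  exact h j _ (Subobject.pullbackπ m (S j))

lemma hered_sup (hG : IsCoreClass.{w} G) {Y : C} (A B : Subobject Y) (hA : hered G (A : C)) (hB : hered G (B : C)) :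
    hered G ((A ⊔ B : Subobject Y) : C) := by
  let φ : (A : C) ⊞ (B : C) ⟶ Y := biprod.desc A.arrow B.arrow
  have hU : imageSubobject φ = A ⊔ B := by
    refine le_antisymm (imageSubobject_le φ (biprod.desc (Subobject.ofLE A _ le_sup_left) (Subobject.ofLE B _ le_sup_right))
      (by ext <;> simp [φ])) (sup_le ?_ ?_)
    · exact Subobject.le_of_comm (biprod.inl ≫ factorThruImageSubobject φ) (by simp [φ])
    · exact Subobject.le_of_comm (biprod.inr ≫ factorThruImageSubobject φ) (by simp [φ])
  have hAB : hered G ((A : C) ⊞ (B : C)) :=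
    hered_ext hG (ShortComplex.Splitting.ofHasBinaryBiproduct (A : C) (B : C)).shortExact hA hB
  rw [← hU]
  exact hered_quot hG (factorThruImageSubobject φ) hAB

lemma hered_coproduct (hG : IsCoreClass.{w} G) {ι : Type w} {F : Discrete ι ⥤ C} {c : Cocone F} (hc : IsColimit c)
    (h : ∀ i, hered G (F.obj i)) : hered G c.pt := by
  classical
  let S : Finset ι → Subobject c.pt := fun s => s.sup fun i => imageSubobject (c.ι.app ⟨i⟩)
  have hzero : hered G ((⊥ : Subobject c.pt) : C) := fun W m hm => hG.of_isZero
    (IsZero.of_mono m ((isZero_zero C).of_iso (Subobject.botCoeIsoZero (B := c.pt))))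
  refine hered_union hG S (fun s t hst => Finset.sup_mono hst) ?_ fun s => ?_
  · rw [iSup_eq_top_iff]
    intro Z z hz
    refine hc.hom_ext fun ⟨i⟩ => ?_
    have h1 : imageSubobject (c.ι.app ⟨i⟩) ≤ S {i} := by simp [S]
    rw [comp_zero, ← imageSubobject_arrow_comp (c.ι.app ⟨i⟩), ← Subobject.ofLE_arrow h1, Category.assoc,
      Category.assoc, hz {i}, comp_zero, comp_zero]
  · induction s using Finset.induction with
    | empty => simpa [S] using hzero
    | insert a s ha ih =>
      simp only [S, Finset.sup_insert]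
      exact hered_sup hG _ _ (hered_quot hG (factorThruImageSubobject _) (h ⟨a⟩)) ih

theorem isLocalizing_hered (hG : IsCoreClass.{w} G) : GabLoc.IsLocalizing.{w} (hered G) where
  isSerreClass :=
    { exists_zero := ⟨0, isZero_zero C, fun W m _ => hG.of_isZero (IsZero.of_mono m (isZero_zero C))⟩
      prop_of_mono := fun f _ hY => hered_mono f hY
      prop_of_epi := fun f _ hX => hered_quot hG f hX
      prop_X₂_of_shortExact := fun hS h1 h3 => hered_ext hG hS h1 h3 }
  isClosedUnderCoproducts J := ⟨by
    rintro X ⟨h⟩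
    exact hered_coproduct hG h.isColimit h.prop_diag_obj⟩

omit [IsGrothendieckAbelian.{w} C] in
lemma le_locClosure (P : ObjectProperty C) : P ≤ GabLoc.locClosure.{w} P := fun _ hY _ _ hPQ => hPQ _ hY

end GabLoc29

end
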