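import Groth.Agent.Lib.GabLoc29.Basic

/-!
# Closed objects for the localizing closure
-/

set_option autoImplicit false
set_option linter.style.haveILetI false

universe w v u

open CategoryTheory CategoryTheory.Limits
open scoped ZeroObject

noncomputable section

namespace GabLoc29

variable {C : Type u} [Category.{v} C] [Abelian C]

/-- `Hom(Y, M) = 0` and every extension of `Y` by `M` splits -/
def Good (M Y : C) : Prop :=
  (∀ f : Y ⟶ M, f = 0) ∧ ∀ (N : C) (i : M ⟶ N) (p : N ⟶ Y) (hp : i ≫ p = 0),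
    (ShortComplex.mk i p hp).ShortExact → ∃ r : N ⟶ M, i ≫ r = 𝟙 M

/-- base change of an extension -/
lemma shortExact_of_isPullback {M N Y P A : C} {i : M ⟶ N} {p : N ⟶ Y} {hp : i ≫ p = 0}
    (hS : (ShortComplex.mk i p hp).ShortExact) {fst : P ⟶ N} {snd : P ⟶ A} {a : A ⟶ Y}
    (sq : IsPullback fst snd p a) :
    ∃ (i' : M ⟶ P) (hi' : i' ≫ snd = 0), i' ≫ fst = i ∧ (ShortComplex.mk i' snd hi').ShortExact := by
  haveI : Mono i := hS.mono_f
  haveI : Epi p := hS.epi_g
  let i' := sq.lift i 0 (by rw [hp, zero_comp])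
  have hfst : i' ≫ fst = i := sq.lift_fst _ _ _
  have hsnd : i' ≫ snd = 0 := sq.lift_snd _ _ _
  haveI : Mono (i' ≫ fst) := by rw [hfst]; infer_instance
  haveI : Mono i' := mono_of_mono i' fst
  haveI : Epi snd := by
    rw [← sq.isoPullback_hom_snd]
    exact epi_comp _ _
  refine ⟨i', hsnd, hfst, { exact := ?_, mono_f := inferInstance, epi_g := inferInstance }⟩
  refine ShortComplex.exact_of_f_is_kernel _ (KernelFork.IsLimit.ofι' _ _ fun {T} k hk => ?_)
  have hk' : (k ≫ fst) ≫ p = 0 := by
    rw [Category.assoc, sq.w, ← Category.assoc]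
    exact (congrArg (· ≫ a) hk).trans zero_comp
  refine ⟨hS.exact.lift (k ≫ fst) hk', sq.hom_ext ?_ ?_⟩
  · erw [Category.assoc, hfst]
    exact hS.exact.lift_f _ _
  · erw [Category.assoc, hsnd, comp_zero]
    exact hk.symm

variable {M : C}

lemma good_quot {W Z : C} (q : W ⟶ Z) [Epi q] (hW : Good M W) (hK : ∀ f : kernel q ⟶ M, f = 0) : Good M Z := by
  refine ⟨fun f => by rw [← cancel_epi q, comp_zero]; exact hW.1 _, fun N i p hp hS => ?_⟩
  haveI : Epi p := hS.epi_g
  obtain ⟨i', hi', hfac, hS'⟩ := shortExact_of_isPullback hS (IsPullback.of_hasPullback p q)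
  obtain ⟨r, hr⟩ := hW.2 _ _ _ hi' hS'
  haveI : Epi (pullback.fst p q) := inferInstance
  have hz : kernel.ι (pullback.fst p q) ≫ r = 0 := by
    let c := kernel.lift q (kernel.ι (pullback.fst p q) ≫ pullback.snd p q) (by
      rw [Category.assoc, ← pullback.condition, kernel.condition_assoc, zero_comp])
    let l : kernel q ⟶ pullback p q := pullback.lift 0 (kernel.ι q) (by rw [zero_comp, kernel.condition])
    have : kernel.ι (pullback.fst p q) = c ≫ l := by
      apply pullback.hom_ext
      · rw [kernel.condition, Category.assoc, pullback.lift_fst, comp_zero]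
      · rw [Category.assoc, pullback.lift_snd, kernel.lift_ι]
    rw [this, Category.assoc, hK (l ≫ r), comp_zero]
  refine ⟨Abelian.epiDesc (pullback.fst p q) r hz, ?_⟩
  rw [← hfac, Category.assoc, Abelian.comp_epiDesc, hr]

lemma good_ext {S : ShortComplex C} (hS : S.ShortExact) (h1 : Good M S.X₁) (h3 : Good M S.X₃) : Good M S.X₂ := by
  haveI := hS.epi_g
  haveI := hS.mono_f
  refine ⟨fun f => ?_, fun N i p hp hN => ?_⟩
  · rw [← hS.exact.g_desc f (h1.1 _), h3.1 (hS.exact.desc f (h1.1 _)), comp_zero]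
  · haveI : Mono i := hN.mono_f
    haveI : Epi p := hN.epi_g
    obtain ⟨i₁, hi₁, hfac, hP⟩ := shortExact_of_isPullback hN (IsPullback.of_hasPullback p S.f)
    obtain ⟨r₁, hr₁⟩ := h1.2 _ _ _ hi₁ hP
    let sp := ShortComplex.Splitting.ofExactOfRetraction _ hP.exact r₁ hr₁ hP.epi_g
    let s : S.X₁ ⟶ N := sp.s ≫ pullback.fst p S.f
    have hs : s ≫ p = S.f := by
      show (sp.s ≫ pullback.fst p S.f) ≫ p = _
      rw [Category.assoc, pullback.condition, ← Category.assoc]
      exact (congrArg (· ≫ S.f) sp.s_g).trans (Category.id_comp _)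
    let π := cokernel.π s
    let p' : cokernel s ⟶ S.X₃ := cokernel.desc s (p ≫ S.g) (by rw [reassoc_of% hs, S.zero])
    have hp' : π ≫ p' = p ≫ S.g := cokernel.π_desc _ _ _
    have hexs : (ShortComplex.mk s π (cokernel.condition s)).Exact :=
      ShortComplex.exact_of_g_is_cokernel _ (cokernelIsCokernel _)
    haveI : Mono (i ≫ π) := Preadditive.mono_of_cancel_zero _ fun {T} x hx => by
      rw [← Category.assoc] at hx
      obtain ⟨T', e, he, y, hy⟩ := hexs.exact_up_to_refinements (x ≫ i) hx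
      dsimp at hy
      have hy0 : y ≫ S.f = 0 := by
        rw [← hs, ← Category.assoc, ← hy, Category.assoc, Category.assoc, hp, comp_zero, comp_zero]
      rw [← cancel_mono i, zero_comp, ← cancel_epi e, hy, comp_zero, zero_of_comp_mono S.f hy0, zero_comp]
    haveI : Epi p' := by
      haveI : Epi (π ≫ p') := by rw [hp']; infer_instance
      exact epi_of_epi π p'
    have h0 : (i ≫ π) ≫ p' = 0 := by rw [Category.assoc, hp', reassoc_of% hp, zero_comp]
    have hex : (ShortComplex.mk (i ≫ π) p' h0).Exact := by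
      rw [ShortComplex.exact_iff_exact_up_to_refinements]
      intro T x hx
      dsimp at x hx ⊢
      obtain ⟨T₁, e₁, he₁, n, hn⟩ := surjective_up_to_refinements_of_epi π x
      have hn0 : (n ≫ p) ≫ S.g = 0 := by
        rw [Category.assoc, ← hp', ← Category.assoc, ← hn, Category.assoc, hx, comp_zero]
      obtain ⟨T₂, e₂, he₂, y, hy⟩ := hS.exact.exact_up_to_refinements (n ≫ p) hn0
      have hm0 : (e₂ ≫ n - y ≫ s) ≫ p = 0 := by
        rw [Preadditive.sub_comp, Category.assoc, Category.assoc, hs, hy, sub_self]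
      obtain ⟨T₃, e₃, he₃, m, hm⟩ := hN.exact.exact_up_to_refinements _ hm0
      dsimp at hm
      refine ⟨T₃, e₃ ≫ e₂ ≫ e₁, inferInstance, m, ?_⟩
      rw [← Category.assoc m, ← hm]
      simp only [Category.assoc, Preadditive.sub_comp, Preadditive.comp_sub, hn]
      rw [show s ≫ π = 0 from cokernel.condition s]
      simp
    obtain ⟨r, hr⟩ := h3.2 _ _ _ h0
      { exact := hex, mono_f := inferInstance, epi_g := inferInstance }
    exact ⟨π ≫ r, by rw [← hr, Category.assoc]⟩

variable [IsGrothendieckAbelian.{w} C]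

lemma good_union {J : Type w} [SemilatticeSup J] [Nonempty J] {W : C} (T : J → Subobject W) (hT : Monotone T)
    (htop : ⨆ j, T j = ⊤) (h : ∀ j, Good M (T j : C)) : Good M W := by
  refine ⟨fun f => (iSup_eq_top_iff T).1 htop f fun j => (h j).1 _, fun N i p hp hN => ?_⟩
  haveI : Mono i := hN.mono_f
  let P : J → Subobject N := fun j => (Subobject.pullback p).obj (T j)
  have hP : Monotone P := fun a b hab => (Subobject.pullback p).monotone (hT hab)
  have hPtop : ⨆ j, P j = ⊤ := iSup_pullback_eq_top T hT htop p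
  have hsq : ∀ j, IsPullback (P j).arrow (Subobject.pullbackπ p (T j)) p (T j).arrow := fun j =>
    (Subobject.isPullback p (T j)).flip
  choose i' hi' hfac hS' using fun j => shortExact_of_isPullback hN (hsq j)
  choose r hr using fun j => (h j).2 _ _ _ (hi' j) (hS' j)
  have hcompat : ∀ a b (hab : a ≤ b), Subobject.ofLE _ _ (hP hab) ≫ r b = r a := fun a b hab => by
    rw [← sub_eq_zero]
    have h0 : i' a ≫ (Subobject.ofLE _ _ (hP hab) ≫ r b - r a) = 0 := by
      have : i' a ≫ Subobject.ofLE _ _ (hP hab) = i' b := by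
        rw [← cancel_mono (P b).arrow, Category.assoc, Subobject.ofLE_arrow, hfac, hfac]
      rw [Preadditive.comp_sub, reassoc_of% this, hr, hr, sub_self]
    haveI := (hS' a).epi_g
    rw [← (hS' a).exact.g_desc _ h0, (h a).1 ((hS' a).exact.desc _ h0), comp_zero]
  obtain ⟨g, hg⟩ := exists_glue P hP hPtop r hcompat
  obtain ⟨j⟩ := (inferInstance : Nonempty J)
  exact ⟨g, by rw [← hfac j, Category.assoc, hg j, hr j]⟩

theorem isCoreClass_good (M : C) : IsCoreClass.{w} (Good M) where
  of_isZero Z hZ := by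
    refine ⟨fun f => hZ.eq_of_src _ _, fun N i p hp hN => ?_⟩
    haveI := hN.mono_f
    exact ⟨hN.exact.lift (𝟙 N) (hZ.eq_of_tgt _ _), (cancel_mono i).1
      ((Category.assoc _ _ _).trans ((congrArg (i ≫ ·) (hN.exact.lift_f (𝟙 N) (hZ.eq_of_tgt _ _))).trans
        ((Category.comp_id i).trans (Category.id_comp i).symm)))⟩
  quot _ _ q _ hW hK := good_quot q hW hK.1
  ext _ hS h1 h3 := good_ext hS h1 h3
  union _ _ _ _ T hT htop h := good_union T hT htop h

lemma good_of_isClosedFor {P : ObjectProperty C} (h : GabLoc.IsClosedFor P M) {Y : C} (hY : P Y) : Good M Y :=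
  ⟨h.1 hY, fun N i p hp hN => by
    haveI := h.2 i p hp hY hN
    exact ⟨retraction i, IsSplitMono.id i⟩⟩

lemma isClosedFor_of_le_hered {P : ObjectProperty C} (h : ∀ Y, P Y → hered (Good M) Y) :
    GabLoc.IsClosedFor P M :=
  ⟨fun Y hY f => (hered_self (h Y hY)).1 f, fun N Y i p hp hY hN => by
    obtain ⟨r, hr⟩ := (hered_self (h Y hY)).2 N i p hp hN
    exact IsSplitMono.mk' ⟨r, hr⟩⟩

lemma isClosedFor_locClosure {P : ObjectProperty C} (h : ∀ Y, P Y → hered (Good M) Y) :
    GabLoc.IsClosedFor (GabLoc.locClosure.{w} P) M :=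
  isClosedFor_of_le_hered fun _ hY => hY _ (isLocalizing_hered (isCoreClass_good M)) h

end GabLoc29

end
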