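import Groth.Agent.Lib.GabLoc29.Basic

/-!
# Transfinite filtrations describe the localizing closure
-/

set_option autoImplicit false
set_option linter.style.haveILetI false

universe w v u

open CategoryTheory CategoryTheory.Limits
open scoped ZeroObject

noncomputable section

namespace GabLoc29

variable {C : Type u} [Category.{v} C] [Abelian C]

/-- every nonzero quotient has a nonzero subobject in `Q` -/
def Reach (Q : ObjectProperty C) (W : C) : Prop :=
  ∀ (Z : C) (q : W ⟶ Z) [Epi q], ¬ IsZero Z → ∃ (A : C) (m : A ⟶ Z), Mono m ∧ ¬ IsZero A ∧ Q A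

lemma reach_of_ne_zero {Q : ObjectProperty C} {W Z : C} (hW : Reach Q W) (f : W ⟶ Z) (hf : f ≠ 0) :
    ∃ (A : C) (m : A ⟶ Z), Mono m ∧ ¬ IsZero A ∧ Q A := by
  obtain ⟨A, m, hm, hA, hQ⟩ := hW _ (factorThruImageSubobject f) fun h => hf (by
    rw [← imageSubobject_arrow_comp f, h.eq_of_src (imageSubobject f).arrow 0, comp_zero])
  haveI := hm
  exact ⟨A, m ≫ (imageSubobject f).arrow, inferInstance, hA, hQ⟩

variable [IsGrothendieckAbelian.{w} C]

theorem isCoreClass_reach (Q : ObjectProperty C) : IsCoreClass.{w} (Reach Q) where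
  of_isZero Z hZ := fun Y q _ hY => absurd (IsZero.of_epi q hZ) hY
  quot W Z q _ hW _ := fun Y q' _ hY => hW Y (q ≫ q') hY
  ext S hS h1 h3 := fun Z q _ hZ => by
    by_cases h : S.f ≫ q = 0
    · haveI := hS.epi_g
      haveI : Epi (S.g ≫ hS.exact.desc q h) := by rw [hS.exact.g_desc]; infer_instance
      haveI : Epi (hS.exact.desc q h) := epi_of_epi S.g _
      exact h3 Z (hS.exact.desc q h) hZ
    · exact reach_of_ne_zero h1 _ h
  union J _ _ W T _ htop h := fun Z q _ hZ => by
    obtain ⟨j, hj⟩ : ∃ j, (T j).arrow ≫ q ≠ 0 := by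
      by_contra hc
      push Not at hc
      exact hZ (IsZero.of_epi_eq_zero q ((iSup_eq_top_iff T).1 htop q hc))
    exact reach_of_ne_zero (h j) _ hj

section SC

variable [HasCoproducts.{w} C] {P : ObjectProperty C}

lemma sc_quot {A Z : C} (q : A ⟶ Z) [Epi q] (h : GabLoc.subquotCoprod.{w} P A) :
    GabLoc.subquotCoprod.{w} P Z := by
  obtain ⟨J, X, hX, B, i, p, hi, hp⟩ := h
  exact ⟨J, X, hX, B, i, p ≫ q, hi, epi_comp p q⟩

lemma sc_sub {A' A : C} (m : A' ⟶ A) [Mono m] (h : GabLoc.subquotCoprod.{w} P A) :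
    GabLoc.subquotCoprod.{w} P A' := by
  obtain ⟨J, X, hX, B, i, p, hi, hp⟩ := h
  exact ⟨J, X, hX, pullback p m, pullback.fst p m ≫ i, pullback.snd p m, inferInstance, inferInstance⟩

lemma sc_of_prop {Y : C} (hY : P Y) : GabLoc.subquotCoprod.{w} P Y :=
  ⟨PUnit.{w+1}, fun _ => Y, fun _ => hY, Y, Sigma.ι (fun _ : PUnit.{w+1} => Y) PUnit.unit, 𝟙 Y, inferInstance,
    inferInstance⟩

lemma reach_of_locClosure {X : C} (h : GabLoc.locClosure.{w} P X) : Reach (GabLoc.subquotCoprod.{w} P) X :=
  hered_self (h _ (isLocalizing_hered (isCoreClass_reach _))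
    fun _ hY _ m _ Z q _ hZ => ⟨Z, 𝟙 Z, inferInstance, hZ, sc_quot q (sc_sub m (sc_of_prop hY))⟩)

lemma exists_larger {X : C} (h : Reach (GabLoc.subquotCoprod.{w} P) X) (S : Subobject X) (hS : S ≠ ⊤) :
    ∃ (T : Subobject X) (hST : S < T), GabLoc.monoModSubquot.{w} P (Subobject.ofLE S T hST.le) := by
  let π := cokernel.π S.arrow
  have hπ : ¬ IsZero (cokernel S.arrow) := fun hz => hS (by
    haveI : Epi S.arrow := Abelian.epi_of_cokernel_π_eq_zero _ (hz.eq_of_tgt _ _)
    haveI : IsIso S.arrow := isIso_of_mono_of_epi _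
    exact Subobject.eq_top_of_isIso_arrow S)
  obtain ⟨A, m, hm, hA, hQ⟩ := h _ π hπ
  haveI := hm
  let T := (Subobject.pullback π).obj (Subobject.mk m)
  let e : (T : C) ⟶ A := Subobject.pullbackπ π (Subobject.mk m) ≫ (Subobject.underlyingIso m).hom
  have he : e ≫ m = T.arrow ≫ π := by
    simp only [e, Category.assoc, Subobject.underlyingIso_hom_comp_eq_mk]
    exact (Subobject.isPullback π (Subobject.mk m)).w
  haveI : Epi e := by
    haveI : Epi (Subobject.pullbackπ π (Subobject.mk m)) := by
      have hsq := Subobject.isPullback π (Subobject.mk m)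
      rw [← hsq.isoPullback_hom_fst]
      exact epi_comp _ _
    exact epi_comp _ _
  have hST : S ≤ T := Subobject.le_of_comm
    ((Subobject.isPullback π (Subobject.mk m)).lift 0 S.arrow (by rw [zero_comp]; exact (cokernel.condition _).symm))
    ((Subobject.isPullback π (Subobject.mk m)).lift_snd _ _ _)
  have h0 : Subobject.ofLE S T hST ≫ e = 0 := by
    rw [← cancel_mono m, Category.assoc, he, Subobject.ofLE_arrow_assoc, zero_comp]
    exact cokernel.condition _
  have hex : (ShortComplex.mk (Subobject.ofLE S T hST) e h0).Exact := by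
    refine ShortComplex.exact_of_f_is_kernel _ (KernelFork.IsLimit.ofι' _ _ fun {W} k hk => ?_)
    have hk' : (k ≫ T.arrow) ≫ π = 0 := by
      rw [Category.assoc, ← he, ← Category.assoc]
      exact (congrArg (· ≫ m) hk).trans zero_comp
    have hS : (ShortComplex.mk S.arrow π (cokernel.condition _)).Exact :=
      ShortComplex.exact_of_g_is_cokernel _ (cokernelIsCokernel _)
    refine ⟨hS.lift (k ≫ T.arrow) hk', ?_⟩
    rw [← cancel_mono T.arrow]
    erw [Category.assoc, Subobject.ofLE_arrow]
    exact hS.lift_f _ _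
  let iso : cokernel (Subobject.ofLE S T hST) ≅ A :=
    (cokernelIsCokernel _).coconePointUniqueUpToIso hex.gIsCokernel
  refine ⟨T, lt_of_le_of_ne hST fun heq => hA ?_, inferInstance, sc_quot iso.inv hQ⟩
  refine IsZero.of_iso ?_ iso.symm
  haveI : IsIso (Subobject.ofLE S T hST) := by
    have : Subobject.ofLE S T hST = (Subobject.isoOfEq S T heq).hom := by
      rw [← cancel_mono T.arrow, Subobject.ofLE_arrow]
      simp
    rw [this]; infer_instance
  exact (IsZero.iff_id_eq_zero _).2 (by
    rw [← cancel_epi (cokernel.π (Subobject.ofLE S T hST)), Category.comp_id, comp_zero,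
      ← cancel_epi (Subobject.ofLE S T hST), cokernel.condition, comp_zero])

section Iteration

variable {X : C} (g : Subobject X → Subobject X) (hle : ∀ S, S ≤ g S)
  (J : Type w) [LinearOrder J] [OrderBot J] [SuccOrder J] [WellFoundedLT J] (A₀ : Subobject X)

/-- iterates of `g` -/
@[simps]
def iterMonoOver : J ⥤ MonoOver X where
  obj j := MonoOver.mk (transfiniteIterate g j A₀).arrow
  map {j j'} f := MonoOver.homMk (Subobject.ofLE _ _ (monotone_transfiniteIterate _ _ hle (leOfHom f)))

/-- iterates of `g` as objects -/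
abbrev iterFunctor : J ⥤ C := iterMonoOver g hle J A₀ ⋙ MonoOver.forget _ ⋙ Over.forget _

set_option backward.defeqAttrib.useBackward true in
set_option backward.isDefEq.respectTransparency false in
instance : (iterFunctor g hle J A₀).IsWellOrderContinuous where
  nonempty_isColimit m hm := ⟨by
    have := hm.nonempty_Iio.to_subtype
    let c := (Set.principalSegIio m).cocone (iterMonoOver g hle J A₀ ⋙ MonoOver.forget _)
    have : Mono c.pt.hom := by dsimp [c]; infer_instance
    apply IsGrothendieckAbelian.isColimitMapCoconeOfSubobjectMkEqISup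
      ((Set.principalSegIio m).monotone.functor ⋙ iterMonoOver g hle J A₀) c
    dsimp [c]
    simp only [Subobject.mk_arrow]
    exact transfiniteIterate_limit g A₀ m hm⟩

end Iteration

theorem exists_filtration {X : C} (h : GabLoc.locClosure.{w} P X) :
    MorphismProperty.transfiniteCompositions.{w} (GabLoc.monoModSubquot.{w} P) (0 : (0 : C) ⟶ X) := by
  classical
  have hR := reach_of_locClosure h
  let g : Subobject X → Subobject X := fun S => if hS : S = ⊤ then ⊤ else (exists_larger hR S hS).choose
  have hlt : ∀ S, S ≠ ⊤ → S < g S := fun S hS => by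
    simp only [g, dif_neg hS]
    exact (exists_larger hR S hS).choose_spec.choose
  have hle : ∀ S, S ≤ g S := fun S => by
    by_cases hS : S = ⊤
    · simp [g, hS]
    · exact (hlt S hS).le
  have hmem : ∀ S T (hT : T = g S) (h : S ≤ T), GabLoc.monoModSubquot.{w} P (Subobject.ofLE S T h) := by
    intro S T hT hle'
    by_cases hS : S = ⊤
    · subst hS
      have hT' : T = ⊤ := by simp [hT, g]
      subst hT'
      refine ⟨inferInstance, ?_⟩
      refine ⟨PEmpty.{w+1}, fun x => x.elim, fun x => x.elim, ∐ (fun x : PEmpty.{w+1} => x.elim), 𝟙 _, 0,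
        inferInstance, ?_⟩
      refine Preadditive.epi_of_cancel_zero _ fun {W} z _ => ?_
      have hπ0 : cokernel.π (Subobject.ofLE (⊤ : Subobject X) ⊤ hle') = 0 := by
        have := cokernel.condition (Subobject.ofLE (⊤ : Subobject X) ⊤ hle')
        simpa using this
      rw [← cancel_epi (cokernel.π _), comp_zero, hπ0, zero_comp]
    · simp only [g, dif_neg hS] at hT
      subst hT
      exact (exists_larger hR S hS).choose_spec.choose_spec
  obtain ⟨o, j, hj⟩ : ∃ (o : Ordinal.{w}) (j : o.ToType), transfiniteIterate g j (⊥ : Subobject X) = ⊤ := by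
    let κ := Order.succ (Cardinal.mk (Shrink.{w} (Subobject X)))
    have : Nonempty κ.ord.ToType := by simp [κ]
    have := WellFoundedLT.toOrderBot κ.ord.ToType
    refine ⟨κ.ord, top_mem_range_transfiniteIterate g ⊥ hlt (by simp [g]) fun h' => ?_⟩
    have hlt' : HasCardinalLT (Subobject X) (Cardinal.mk κ.ord.ToType) := lt_of_lt_of_le (Order.lt_succ _) (by simp [κ])
    simpa [hasCardinalLT_iff_cardinal_mk_lt] using hlt'.of_injective _ h'
  have : Nonempty o.ToType := ⟨j⟩
  have : OrderBot o.ToType := WellFoundedLT.toOrderBot _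
  let F := iterFunctor g hle o.ToType (⊥ : Subobject X)
  let t : (GabLoc.monoModSubquot.{w} P).TransfiniteCompositionOfShape (Set.Iic j) (F.map (homOfLE bot_le : ⊥ ⟶ j)) :=
    { F := (Set.initialSegIic j).monotone.functor ⋙ F
      isoBot := Iso.refl _
      incl :=
        { app := fun k => F.map (homOfLE k.2)
          naturality := fun k k' h => by
            simp only [Functor.const_obj_obj, Functor.const_obj_map, Category.comp_id, Functor.comp_map,
              ← Functor.map_comp]
            exact congrArg F.map (Subsingleton.elim _ _) }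
      fac := Category.id_comp _
      isColimit := colimitOfDiagramTerminal isTerminalTop _
      map_mem := fun k hk => by
        refine hmem _ _ ?_ (monotone_transfiniteIterate _ _ hle (Subtype.coe_le_coe.2 (Order.le_succ k)))
        show transfiniteIterate g (Order.succ k).1 _ = _
        rw [Set.Iic.succ_eq_of_not_isMax hk, transfiniteIterate_succ _ _ _ (Set.not_isMax_coe _ hk)] }
  have hiso : IsIso (transfiniteIterate g j (⊥ : Subobject X)).arrow := (Subobject.isIso_arrow_iff_eq_top _).2 hj
  have e : Arrow.mk (F.map (homOfLE bot_le : ⊥ ⟶ j)) ≅ Arrow.mk (0 : (0 : C) ⟶ X) :=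
    Arrow.isoMk (Subobject.isoOfEq _ _ (transfiniteIterate_bot _ _) ≪≫ Subobject.botCoeIsoZero)
      (@asIso _ _ _ _ _ hiso) (by
        dsimp
        rw [comp_zero]
        show (0 : _ ⟶ X) = Subobject.ofLE _ _ _ ≫ (transfiniteIterate g j (⊥ : Subobject X)).arrow
        rw [Subobject.ofLE_arrow]
        rw [← Subobject.ofLE_arrow (le_of_eq (transfiniteIterate_bot g (⊥ : Subobject X))), Subobject.bot_arrow, comp_zero])
  exact (MorphismProperty.transfiniteCompositions_iff _ _).2 ⟨_, _, _, _, _, ⟨t.ofArrowIso e⟩⟩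

theorem locClosure_of_filtration {X : C}
    (h : MorphismProperty.transfiniteCompositions.{w} (GabLoc.monoModSubquot.{w} P) (0 : (0 : C) ⟶ X)) :
    GabLoc.locClosure.{w} P X := by
  intro Q hQ hPQ
  rw [MorphismProperty.transfiniteCompositions_iff] at h
  obtain ⟨J, _, _, _, _, ⟨t⟩⟩ := h
  haveI := hQ.isSerreClass
  haveI := hQ.isClosedUnderCoproducts
  have hcop : ∀ {ι : Type w} (G : ι → C), (∀ i, Q (G i)) → Q (∐ G) := fun G hG =>
    Q.prop_colimit (J := Discrete _) (Discrete.functor G) fun i => hG i.as
  have hcok : ∀ {A B : C} (f : A ⟶ B), GabLoc.monoModSubquot.{w} P f → Q A → Q B := by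
    rintro A B f ⟨hf, ι, G, hG, B', i, p, hi, hp⟩ hA
    have hc : Q (cokernel f) := Q.prop_of_epi p (Q.prop_of_mono i (hcop G fun j => hPQ _ (hG j)))
    exact Q.prop_X₂_of_shortExact (S := ShortComplex.mk f (cokernel.π f) (cokernel.condition f))
      { exact := ShortComplex.exact_of_g_is_cokernel _ (cokernelIsCokernel _), mono_f := hf,
        epi_g := inferInstance } hA hc
  have hcolim : ∀ {I : Type w} [Preorder I] {D : I ⥤ C} {c : Cocone D}, IsColimit c → (∀ i, Q (D.obj i)) → Q c.pt := by
    intro I _ D c hc hD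
    haveI : Epi (Sigma.desc fun i => c.ι.app i) := Preadditive.epi_of_cancel_zero _ fun {W} z hz =>
      hc.hom_ext fun i => by
        have := congrArg (Sigma.ι D.obj i ≫ ·) hz
        simpa using this
    exact Q.prop_of_epi (Sigma.desc fun i => c.ι.app i) (hcop _ hD)
  have key : ∀ j, Q (t.F.obj j) := by
    intro j
    induction j using SuccOrder.limitRecOn with
    | isMin j hj =>
      obtain rfl := hj.eq_bot
      exact Q.prop_of_mono t.isoBot.hom Q.prop_zero
    | succ j hj ih => exact hcok _ (t.map_mem j hj) ih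
    | isSuccLimit j hj ih => exact hcolim (t.F.isColimitOfIsWellOrderContinuous j hj) fun i => ih i.1 i.2
  exact hcolim t.isColimit key

end SC

end GabLoc29

end
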