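import Groth.Agent.Lib.GabLoc29.Basic

/-!
# Indecomposable injectives of Grothendieck categories are uniform
-/

set_option autoImplicit false

universe w v u

open CategoryTheory CategoryTheory.Limits

namespace GabLoc29.Uniform28

open GabLoc29

variable {C : Type u} [Category.{v} C] [Abelian C] {E : C}

theorem eq_bot_of_arrow_eq_zero {A : Subobject E} (h : A.arrow = 0) : A = ⊥ := by
  rw [← Subobject.mk_arrow A, Subobject.mk_eq_bot_iff_zero]
  exact h

theorem arrow_eq_zero_of_eq_bot {A : Subobject E} (h : A = ⊥) : A.arrow = 0 := by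
  rw [← Subobject.mk_eq_bot_iff_zero, Subobject.mk_arrow]
  exact h

theorem eq_zero_of_factors_disjoint {A B : Subobject E} (h : A ⊓ B = ⊥) {T : C} (t : T ⟶ E)
    (hA : A.Factors t) (hB : B.Factors t) : t = 0 := by
  have h' : (A ⊓ B).Factors t := (Subobject.inf_factors t).2 ⟨hA, hB⟩
  rw [← Subobject.factorThru_arrow (A ⊓ B) t h', arrow_eq_zero_of_eq_bot h, comp_zero]

variable [IsGrothendieckAbelian.{w} C]

/-- A directed union of subobjects disjoint from `B` is disjoint from `B`. -/
theorem iSup_inf_eq_bot {J : Type w} [SemilatticeSup J] [Nonempty J] (S : J → Subobject E) (hS : Monotone S)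
    (B : Subobject E) (h : ∀ j, S j ⊓ B = ⊥) : (⨆ j, S j) ⊓ B = ⊥ := by
  set U := ⨆ j, S j with hU
  have hle : ∀ j, S j ≤ U := le_iSup S
  let S' : J → Subobject (U : C) := fun j => Subobject.mk (Subobject.ofLE (S j) U (hle j))
  have hS' : Monotone S' := fun i j hij =>
    Subobject.mk_le_mk_of_comm (Subobject.ofLE _ _ (hS hij)) (by simp)
  have htop : ⨆ j, S' j = ⊤ := by
    rw [iSup_eq_top_iff]
    intro Z z hz
    have hz' : ∀ j, Subobject.ofLE (S j) U (hle j) ≫ z = 0 := fun j => by
      have := hz j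
      rw [← Subobject.underlyingIso_hom_comp_eq_mk (Subobject.ofLE (S j) U (hle j)), ← cancel_epi
        (Subobject.underlyingIso (Subobject.ofLE (S j) U (hle j))).inv] at this
      simpa using this
    let K : Subobject E := Subobject.mk ((kernelSubobject z).arrow ≫ U.arrow)
    have hK : U ≤ K := by
      refine iSup_le fun j => Subobject.le_mk_of_comm ((kernelSubobject z).factorThru (Subobject.ofLE (S j) U (hle j))
        (kernelSubobject_factors z _ (hz' j))) (by simp)
    have e : Subobject.ofLE U K hK ≫ (Subobject.underlyingIso _).hom ≫ (kernelSubobject z).arrow = 𝟙 _ := by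
      rw [← cancel_mono U.arrow, Category.assoc, Category.assoc, Subobject.underlyingIso_hom_comp_eq_mk,
        Category.id_comp]
      exact Subobject.ofLE_arrow hK
    rw [← Category.id_comp z, ← e]
    simp [kernelSubobject_arrow_comp]
  let W : Subobject E := U ⊓ B
  let f : (W : C) ⟶ (U : C) := Subobject.ofLE W U inf_le_left
  have h1 := iSup_pullback_eq_top S' hS' htop f
  refine eq_bot_of_arrow_eq_zero ?_
  rw [iSup_eq_top_iff] at h1
  refine h1 W.arrow fun j => ?_
  refine eq_zero_of_factors_disjoint (h j) _ ?_ ?_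
  · have hf : (S' j).Factors (((Subobject.pullback f).obj (S' j)).arrow ≫ f) :=
      (Subobject.factors_iff _ _).2 ⟨Subobject.pullbackπ f (S' j), (Subobject.isPullback f (S' j)).w⟩
    obtain ⟨q, hq⟩ := (Subobject.mk_factors_iff _ _).1 hf
    rw [← Subobject.mk_arrow (S j), Subobject.mk_factors_iff]
    refine ⟨q, ?_⟩
    have h' := congrArg (fun t => t ≫ U.arrow) hq
    simp only [f, Category.assoc, Subobject.ofLE_arrow] at h'
    exact (congrArg (q ≫ ·) (Subobject.ofLE_arrow (hle j)).symm).trans h'
  · rw [← Subobject.mk_arrow B, Subobject.mk_factors_iff]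
    exact ⟨((Subobject.pullback f).obj (S' j)).arrow ≫ Subobject.ofLE W B inf_le_right, by simp⟩

/-- Zorn: complements exist. -/
theorem exists_maximal_disjoint (A B : Subobject E) (h : A ⊓ B = ⊥) :
    ∃ M : Subobject E, A ≤ M ∧ M ⊓ B = ⊥ ∧ ∀ M', M ≤ M' → M' ⊓ B = ⊥ → M' = M := by
  haveI : Small.{w} (Subobject E) := inferInstance
  obtain ⟨M, hAM, hM⟩ := zorn_le_nonempty₀ {M : Subobject E | M ⊓ B = ⊥}
    (fun c hc hchain y hy => by
      classical
      haveI : Nonempty c := ⟨⟨y, hy⟩⟩
      let e := equivShrink.{w} (Subobject E)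
      let c' : Set (Shrink.{w} (Subobject E)) := e '' c
      letI : LinearOrder c := hchain.linearOrder
      let g : Shrink.{w} c ≃ c := (equivShrink c).symm
      letI : LinearOrder (Shrink.{w} c) := LinearOrder.lift' g g.injective
      haveI : Nonempty (Shrink.{w} c) := ⟨equivShrink c ⟨y, hy⟩⟩
      refine ⟨⨆ j : Shrink.{w} c, (g j : Subobject E), ?_, fun z hz => ?_⟩
      · exact iSup_inf_eq_bot (fun j => (g j : Subobject E)) (fun i j hij => hij) B fun j => hc (g j).2
      · have := le_iSup (fun j : Shrink.{w} c => (g j : Subobject E)) (equivShrink c ⟨z, hz⟩)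
        simpa [g] using this)
    A h
  exact ⟨M, hAM, hM.prop, fun M' hle hd => le_antisymm (hM.le_of_ge hd hle) hle⟩

/-- Two nonzero subobjects of an indecomposable injective meet. -/
theorem inf_ne_bot [Injective E] (hind : ∀ (A B : C), Nonempty (E ≅ A ⊞ B) → IsZero A ∨ IsZero B)
    (A B : Subobject E) (hA : A ≠ ⊥) (hB : B ≠ ⊥) : A ⊓ B ≠ ⊥ := by
  intro h
  obtain ⟨M, hAM, hMB, hMmax⟩ := exists_maximal_disjoint A B h
  obtain ⟨N, hBN, hNM, hNmax⟩ := exists_maximal_disjoint B M (by rw [inf_comm]; exact hMB)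
  have hMN : M ⊓ N = ⊥ := by rw [inf_comm]; exact hNM
  have hMmax' : ∀ M', M ≤ M' → M' ⊓ N = ⊥ → M' = M := fun M' hle hd =>
    hMmax M' hle (eq_bot_iff.2 (hd ▸ inf_le_inf_left M' hBN))
  let d : (M : C) ⊞ (N : C) ⟶ E := biprod.desc M.arrow N.arrow
  haveI : Mono d := Preadditive.mono_of_cancel_zero _ fun {T} t ht => by
    have h1 : (t ≫ biprod.fst) ≫ M.arrow + (t ≫ biprod.snd) ≫ N.arrow = 0 := by
      rw [Category.assoc, Category.assoc, ← Preadditive.comp_add, ← biprod.desc_eq]
      exact ht
    have h2 : (t ≫ biprod.fst) ≫ M.arrow = 0 := by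
      refine eq_zero_of_factors_disjoint hMN _ ((Subobject.factors_iff _ _).2 ⟨_, rfl⟩) ?_
      rw [eq_neg_of_add_eq_zero_left h1, ← Preadditive.neg_comp]
      exact (Subobject.factors_iff _ _).2 ⟨_, rfl⟩
    rw [h2, zero_add] at h1
    refine biprod.hom_ext _ _ ?_ ?_
    · rw [zero_comp, ← cancel_mono M.arrow, zero_comp]; exact h2
    · rw [zero_comp, ← cancel_mono N.arrow, zero_comp]; exact h1
  let g : E ⟶ E := Injective.factorThru (biprod.fst ≫ M.arrow) d
  have hg : d ≫ g = biprod.fst ≫ M.arrow := Injective.comp_factorThru _ _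
  have hgM : M.arrow ≫ g = M.arrow := by
    have := congrArg (fun t => biprod.inl ≫ t) hg
    simpa [d] using this
  have hgN : N.arrow ≫ g = 0 := by
    have := congrArg (fun t => biprod.inr ≫ t) hg
    simpa [d] using this
  let I := imageSubobject g
  have hMI : M ≤ I := Subobject.le_of_comm (M.arrow ≫ factorThruImageSubobject g) (by
    rw [Category.assoc, imageSubobject_arrow_comp, hgM])
  have hIN : I ⊓ N = ⊥ := by
    let X := I ⊓ N
    let Y := (Subobject.pullback g).obj X
    have hYw : Y.arrow ≫ g = Subobject.pullbackπ g X ≫ X.arrow := ((Subobject.isPullback g X).w).symm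
    have hNY : N ≤ Y := Subobject.le_of_comm ((Subobject.isPullback g X).lift 0 N.arrow (by rw [zero_comp, hgN]))
      ((Subobject.isPullback g X).lift_snd _ _ _)
    have hYM : Y ⊓ M = ⊥ := eq_bot_of_arrow_eq_zero (by
      refine eq_zero_of_factors_disjoint hMN _ ((Subobject.factors_iff _ _).2
        ⟨Subobject.ofLE _ _ inf_le_right, Subobject.ofLE_arrow _⟩) ?_
      have e : (Y ⊓ M).arrow = (Y ⊓ M).arrow ≫ g := by
        rw [← Subobject.ofLE_arrow (inf_le_right : Y ⊓ M ≤ M), Category.assoc, hgM]
      rw [e, ← Subobject.ofLE_arrow (inf_le_left : Y ⊓ M ≤ Y), Category.assoc, hYw]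
      refine (Subobject.factors_iff _ _).2 ⟨Subobject.ofLE _ _ inf_le_left ≫ Subobject.pullbackπ g X ≫
        Subobject.ofLE X N inf_le_right, ?_⟩
      simp)
    have hYN : Y = N := hNmax Y hNY hYM
    refine eq_bot_of_arrow_eq_zero ?_
    let p := pullback.fst (factorThruImageSubobject g) (Subobject.ofLE X I inf_le_left)
    let q := pullback.snd (factorThruImageSubobject g) (Subobject.ofLE X I inf_le_left)
    have hpq : q ≫ X.arrow = p ≫ g := by
      have := congrArg (fun t => t ≫ I.arrow) (pullback.condition (f := factorThruImageSubobject g)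
        (g := Subobject.ofLE X I inf_le_left))
      simp only [Category.assoc, Subobject.ofLE_arrow] at this
      erw [imageSubobject_arrow_comp] at this
      exact this.symm
    have hpY : Y.Factors p := (Subobject.factors_iff _ _).2
      ⟨(Subobject.isPullback g X).lift q p hpq, (Subobject.isPullback g X).lift_snd _ _ _⟩
    rw [hYN] at hpY
    rw [← cancel_epi q, comp_zero, hpq, ← Subobject.factorThru_arrow N p hpY, Category.assoc, hgN, comp_zero]
  have hIM : I = M := hMmax' I hMI hIN
  let r : E ⟶ (M : C) := factorThruImageSubobject g ≫ Subobject.ofLE I M hIM.le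
  have hr : M.arrow ≫ r = 𝟙 _ := by
    rw [← cancel_mono M.arrow, Category.assoc, Category.assoc, Subobject.ofLE_arrow, imageSubobject_arrow_comp, hgM,
      Category.id_comp]
  haveI : IsSplitMono M.arrow := IsSplitMono.mk' ⟨r, hr⟩
  let S : ShortComplex C := ShortComplex.mk M.arrow (cokernel.π M.arrow) (cokernel.condition _)
  have hS : S.ShortExact := ⟨ShortComplex.exact_cokernel _⟩
  let sp := ShortComplex.Splitting.ofExactOfRetraction S hS.exact r hr inferInstance
  rcases hind _ _ ⟨sp.isoBinaryBiproduct⟩ with hz | hz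
  · exact hA (eq_bot_iff.2 (hAM.trans (eq_bot_of_arrow_eq_zero (hz.eq_of_src _ _)).le))
  · haveI : Epi M.arrow := Abelian.epi_of_cokernel_π_eq_zero _ (hz.eq_of_tgt _ _)
    haveI : IsIso M.arrow := isIso_of_mono_of_epi _
    rw [Subobject.eq_top_of_isIso_arrow M, top_inf_eq] at hMB
    exact hB hMB

end GabLoc29.Uniform28
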